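import Mathlib.GroupTheory.OrderOfElement
import Mathlib.GroupTheory.Subgroup.Centralizer
import Mathlib.Tactic

/-!
# Abstract computations for the Monster at the prime 7 (helper688)

`C` : the centralizer of `w` of order 7; `z` an involution of `C` with `C_C(z)/⟨w, z⟩` mapping onto `A`, where
`A` has a self-centralizing cyclic group of order 4; `z` is the only involution of `C_C(z)`.
-/

set_option autoImplicit false

namespace Cfsg.Agent.H688.Mon

open Subgroup

theorem exists_eight {C A : Type*} [Group C] [Group A] {w z : C} (hw : orderOf w = 7) (hwc : ∀ c, c * w = w * c)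
    (hz : orderOf z = 2) (T : ↥(centralizer ({z} : Set C)) →* A) (hT : Function.Surjective T)
    (hker : ∀ u, T u = 1 → ∃ i j : ℤ, (u : C) = w ^ i * z ^ j)
    (honly : ∀ s : C, s * s = 1 → s * z = z * s → s = 1 ∨ s = z)
    (hTz : T ⟨z, mem_centralizer_singleton_iff.2 rfl⟩ = 1) {s : A} (hs : orderOf s = 4)
    (hsc : ∀ g, g * s = s * g → g ∈ zpowers s) :
    ∃ y : C, orderOf y = 8 ∧ y ^ 4 = z ∧ (∀ g, g * y = y * g → ∃ i j : ℤ, g = w ^ i * y ^ j) ∧
      ∀ g, g * y = y * z * g → ∃ i j : ℤ, g = w ^ i * y ^ j := by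
  have hw7 : w ^ 7 = 1 := by rw [← hw, pow_orderOf_eq_one]
  have hz2 : z ^ 2 = 1 := by rw [← hz, pow_orderOf_eq_one]
  have hs4 : s ^ 4 = 1 := by rw [← hs, pow_orderOf_eq_one]
  have hwz : Commute w z := (hwc z).symm
  obtain ⟨d, hd⟩ := hT s
  -- `d ^ 4`
  obtain ⟨i, j, hij⟩ := hker (d ^ 4) (by rw [map_pow, hd, hs4])
  rw [Subgroup.coe_pow] at hij
  have hci : Commute (w ^ i) (z ^ j) := (hwz.zpow_left i).zpow_right j
  have hw' : ∀ k : ℕ, 7 ∣ k → (w ^ i) ^ k = 1 := by
    rintro k ⟨m, rfl⟩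
    rw [← zpow_natCast, ← zpow_mul, mul_comm i, zpow_mul, zpow_natCast, pow_mul, hw7, one_pow, one_zpow]
  have hz' : ∀ k : ℕ, 2 ∣ k → (z ^ j) ^ k = 1 := by
    rintro k ⟨m, rfl⟩
    rw [← zpow_natCast, ← zpow_mul, mul_comm j, zpow_mul, zpow_natCast, pow_mul, hz2, one_pow, one_zpow]
  obtain ⟨y, hy⟩ : ∃ y : ↥(centralizer ({z} : Set C)), y = d ^ 21 := ⟨_, rfl⟩
  have hTy : T y = s := by
    rw [hy, map_pow, hd, show 21 = 4 * 5 + 1 by norm_num, pow_succ, pow_mul, hs4, one_pow, one_mul]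
  have hy4 : (y : C) ^ 4 = z ^ j := by
    rw [hy, Subgroup.coe_pow, ← pow_mul, show 21 * 4 = 4 * 21 by norm_num, pow_mul, hij, hci.mul_pow,
      hw' 21 (by norm_num), one_mul, show 21 = 2 * 10 + 1 by norm_num, pow_succ, hz' (2 * 10) (by norm_num),
      one_mul]
  have hzj : z ^ j = 1 ∨ z ^ j = z := by
    rcases Int.even_or_odd' j with ⟨m, rfl | rfl⟩
    · left
      rw [zpow_mul, ← Nat.cast_ofNat (R := ℤ), zpow_natCast, hz2, one_zpow]
    · right
      rw [zpow_add, zpow_mul, ← Nat.cast_ofNat (R := ℤ), zpow_natCast, hz2, one_zpow, one_mul, zpow_one]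
  have hyz : (y : C) * z = z * y := mem_centralizer_singleton_iff.1 y.2
  have hs2 : s ^ 2 ≠ 1 := by
    intro h
    have h1 := orderOf_dvd_of_pow_eq_one h
    rw [hs] at h1
    norm_num at h1
  have hy4z : (y : C) ^ 4 = z := by
    rw [hy4]
    rcases hzj with h | h
    · exfalso
      rw [h] at hy4
      have h3 : T (y ^ 2) = s ^ 2 := by rw [map_pow, hTy]
      rcases honly ((y : C) ^ 2) (by rw [← pow_add]; exact hy4) ((Commute.pow_left hyz 2).eq) with h1 | h1
      · have h2 : y ^ 2 = 1 := Subtype.ext (by rw [Subgroup.coe_pow]; exact h1)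
        rw [h2, map_one] at h3
        exact hs2 h3.symm
      · have h2 : y ^ 2 = ⟨z, mem_centralizer_singleton_iff.2 rfl⟩ := Subtype.ext (by rw [Subgroup.coe_pow]; exact h1)
        rw [h2, hTz] at h3
        exact hs2 h3.symm
    · exact h
  have hz1 : z ≠ 1 := by
    rintro rfl
    rw [orderOf_one] at hz
    norm_num at hz
  have ho : orderOf (y : C) = 8 := by
    have h1 : (y : C) ^ 2 ^ (2 + 1) = 1 := by
      rw [show 2 ^ (2 + 1) = 4 * 2 by norm_num, pow_mul, hy4z, hz2]
    have h2 : ¬ (y : C) ^ 2 ^ 2 = 1 := by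
      rw [show 2 ^ 2 = 4 by norm_num, hy4z]
      exact hz1
    have := orderOf_eq_prime_pow h2 h1
    rw [this]
    norm_num
  -- the common part
  have key : ∀ g : C, ∀ hg : g * z = z * g, T ⟨g, mem_centralizer_singleton_iff.2 hg⟩ * s =
      s * T ⟨g, mem_centralizer_singleton_iff.2 hg⟩ → ∃ i j : ℤ, g = w ^ i * (y : C) ^ j := by
    intro g hg hc
    obtain ⟨k, hk⟩ := mem_zpowers_iff.1 (hsc _ hc)
    obtain ⟨a, b, hab⟩ := hker (⟨g, mem_centralizer_singleton_iff.2 hg⟩ * (y ^ k)⁻¹) (by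
      rw [map_mul, map_inv, map_zpow, hTy, ← hk, mul_inv_cancel])
    refine ⟨a, 4 * b + k, ?_⟩
    have h1 : g * ((y : C) ^ k)⁻¹ = w ^ a * z ^ b := by
      rw [← hab]
      simp
    rw [mul_inv_eq_iff_eq_mul] at h1
    have h2 : (y : C) ^ (4 * b) = z ^ b := by
      rw [zpow_mul]
      congr 1
      rw [← Nat.cast_ofNat (R := ℤ), zpow_natCast]
      exact hy4z
    rw [h1, zpow_add, h2, ← mul_assoc]
  refine ⟨y, ho, hy4z, ?_, ?_⟩
  · intro g hg
    have h1 : g * z = z * g := by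
      rw [← hy4z]
      exact (Commute.pow_right hg 4).eq
    refine key g h1 ?_
    rw [← hTy, ← map_mul, ← map_mul]
    congr 1
    exact Subtype.ext hg
  · intro g hg
    have h1 : g * z = z * g := by
      have h2 : SemiconjBy g (y : C) (y * z) := hg
      have h3 := h2.pow_right 4
      rw [Commute.mul_pow hyz, hy4z, show 4 = 2 * 2 by norm_num, pow_mul z, hz2, one_pow, mul_one] at h3
      exact h3
    refine key g h1 ?_
    have h4 : (⟨g, mem_centralizer_singleton_iff.2 h1⟩ : ↥(centralizer ({z} : Set C))) * y =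
        y * ⟨z, mem_centralizer_singleton_iff.2 rfl⟩ * ⟨g, mem_centralizer_singleton_iff.2 h1⟩ := Subtype.ext hg
    rw [← hTy, ← map_mul, h4, map_mul, map_mul, hTz, mul_one]

/-- the same in a group with `C = C(w)` -/
theorem cyc_data {G : Type*} [Group G] {w : G} (hw : orderOf w = 7) {y z : ↥(centralizer ({w} : Set G))}
    (hy : orderOf y = 8) (hyz : y ^ 4 = z)
    (h1 : ∀ g : ↥(centralizer ({w} : Set G)), g * y = y * g → ∃ i j : ℤ, (g : G) = w ^ i * (y : G) ^ j)
    (h2 : ∀ g : ↥(centralizer ({w} : Set G)), g * y = y * z * g → ∃ i j : ℤ, (g : G) = w ^ i * (y : G) ^ j) :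
    orderOf (w * (y : G)) = 56 ∧ (∀ g : G, g * (w * (y : G)) = w * (y : G) * g → g ∈ zpowers (w * (y : G))) ∧
      ∀ g : G, g * (w * (y : G)) * g⁻¹ ≠ (w * (y : G)) ^ 29 := by
  have hc : Commute w (y : G) := (mem_centralizer_singleton_iff.1 y.2).symm
  have hy' : orderOf (y : G) = 8 := by rw [Subgroup.orderOf_coe, hy]
  have ho : orderOf (w * (y : G)) = 56 := by
    rw [hc.orderOf_mul_eq_mul_orderOf_of_coprime (by rw [hw, hy']; norm_num), hw, hy']
  have hw7 : w ^ 7 = 1 := by rw [← hw, pow_orderOf_eq_one]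
  have hy8 : (y : G) ^ 8 = 1 := by rw [← hy', pow_orderOf_eq_one]
  set x := w * (y : G) with hx
  have e8 : x ^ 8 = w := by
    rw [hx, hc.mul_pow, hy8, mul_one, pow_succ, hw7, one_mul]
  have e49 : x ^ 49 = y := by
    rw [hx, hc.mul_pow, show 49 = 7 * 7 by norm_num, pow_mul w, hw7, one_pow, one_mul,
      show 7 * 7 = 8 * 6 + 1 by norm_num, pow_succ, pow_mul, hy8, one_pow, one_mul]
  have hmem : ∀ g : G, (∃ i j : ℤ, g = w ^ i * (y : G) ^ j) → g ∈ zpowers x := by
    rintro g ⟨i, j, rfl⟩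
    refine mul_mem (zpow_mem ?_ i) (zpow_mem ?_ j)
    · rw [← e8]
      exact pow_mem (mem_zpowers x) 8
    · rw [← e49]
      exact pow_mem (mem_zpowers x) 49
  refine ⟨ho, ?_, ?_⟩
  · intro g hg
    have hg' : Commute g x := hg
    have g1 : g * w = w * g := by
      rw [← e8]
      exact (hg'.pow_right 8).eq
    have g2 : g * (y : G) = y * g := by
      rw [← e49]
      exact (hg'.pow_right 49).eq
    exact hmem g (h1 ⟨g, mem_centralizer_singleton_iff.2 g1⟩ (Subtype.ext g2))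
  · intro g hg
    have hg' : SemiconjBy g x (x ^ 29) := (mul_inv_eq_iff_eq_mul.1 hg)
    have hx56 : x ^ 56 = 1 := by rw [← ho, pow_orderOf_eq_one]
    have g1 : g * w = w * g := by
      have h3 := hg'.pow_right 8
      rw [← pow_mul, show 29 * 8 = 56 * 4 + 8 by norm_num, pow_add, pow_mul x 56, hx56, one_pow, one_mul, e8] at h3
      exact h3
    have g2 : g * (y : G) = y * (z : G) * g := by
      have h3 := hg'.pow_right 49
      rw [← pow_mul, mul_comm 29, pow_mul, e49] at h3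
      have e : (y : G) ^ 29 = y * z := by
        rw [← hyz, Subgroup.coe_pow, show 29 = 8 * 3 + 5 by norm_num, pow_add, pow_mul, hy8, one_pow, one_mul,
          show 5 = 1 + 4 by norm_num, pow_add, pow_one]
      rw [e] at h3
      exact h3
    have h3 := hmem g (h2 ⟨g, mem_centralizer_singleton_iff.2 g1⟩ (Subtype.ext g2))
    obtain ⟨k, rfl⟩ := mem_zpowers_iff.1 h3
    have h4 : x ^ k * x * (x ^ k)⁻¹ = x := by
      rw [((Commute.refl x).zpow_left k).eq, mul_inv_cancel_right]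
    rw [h4] at hg
    have h5 : x ^ 28 = 1 := by
      have : x * x ^ 28 = x * 1 := by rw [← pow_succ', ← hg, mul_one]
      exact mul_left_cancel this
    have h6 := orderOf_dvd_of_pow_eq_one h5
    rw [ho] at h6
    norm_num at h6

end Cfsg.Agent.H688.Mon
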