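import Mathlib.GroupTheory.SpecificGroups.Alternating
import Mathlib.GroupTheory.Perm.Fin
import Mathlib.GroupTheory.Perm.Cycle.Concrete
import Mathlib.Tactic

/-!
# An element of order 4 of `A₇` generates its centralizer (helper688)
-/

set_option autoImplicit false

namespace Cfsg.Agent.H688.Mon

open Equiv Subgroup

/-- the 4-cycle -/
def c4 : Perm (Fin 7) := c[0, 1, 2, 3]
/-- the transposition -/
def c2 : Perm (Fin 7) := c[4, 5]

theorem fin_aux : ∀ a b : Fin 7, Function.Injective (![a, (c4 * c2) a, (c4 * c2) ((c4 * c2) a),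
    (c4 * c2) ((c4 * c2) ((c4 * c2) a)), b, (c4 * c2) b, 6] : Fin 7 → Fin 7) → (c4 * c2) ((c4 * c2) b) = b →
    ∃ i : Fin 4, ∃ j : Fin 2, ∀ k : Fin 7, (c4 ^ (i : ℕ) * c2 ^ (j : ℕ)) k = (![a, (c4 * c2) a, (c4 * c2) ((c4 * c2) a),
    (c4 * c2) ((c4 * c2) ((c4 * c2) a)), b, (c4 * c2) b, 6] : Fin 7 → Fin 7) k := by decide +kernel

theorem fin_sign : ∀ (i : Fin 4) (j : Fin 2), Perm.sign (c4 ^ (i : ℕ) * c2 ^ (j : ℕ)) = 1 →
    ∃ k : Fin 4, c4 ^ (i : ℕ) * c2 ^ (j : ℕ) = (c4 * c2) ^ (k : ℕ) := by decide +kernel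

theorem fin_fix : ∀ a : Fin 7, (c4 * c2) a = a → a = 6 := by decide +kernel

theorem vals : (c4 * c2) 0 = 1 ∧ (c4 * c2) 1 = 2 ∧ (c4 * c2) 2 = 3 ∧ (c4 * c2) 4 = 5 ∧ (c4 * c2) 5 = 4 ∧
    (c4 * c2) 6 = 6 := by decide +kernel

theorem perm_cent (g : Perm (Fin 7)) (hg : g * (c4 * c2) = (c4 * c2) * g) (hs : Perm.sign g = 1) :
    ∃ k : Fin 4, g = (c4 * c2) ^ (k : ℕ) := by
  have h : ∀ i, g ((c4 * c2) i) = (c4 * c2) (g i) := fun i => congrArg (fun f : Perm (Fin 7) => f i) hg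
  obtain ⟨v0, v1, v2, v4, v5, v6⟩ := vals
  have e1 : g 1 = (c4 * c2) (g 0) := by rw [← h, v0]
  have e2 : g 2 = (c4 * c2) ((c4 * c2) (g 0)) := by rw [← e1, ← h, v1]
  have e3 : g 3 = (c4 * c2) ((c4 * c2) ((c4 * c2) (g 0))) := by rw [← e2, ← h, v2]
  have e5 : g 5 = (c4 * c2) (g 4) := by rw [← h, v4]
  have e4 : (c4 * c2) ((c4 * c2) (g 4)) = g 4 := by rw [← e5, ← h, v5]
  have e6 : g 6 = 6 := fin_fix _ (by rw [← h, v6])
  have hF : ∀ k : Fin 7, g k = (![g 0, (c4 * c2) (g 0), (c4 * c2) ((c4 * c2) (g 0)),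
      (c4 * c2) ((c4 * c2) ((c4 * c2) (g 0))), g 4, (c4 * c2) (g 4), 6] : Fin 7 → Fin 7) k := by
    intro k
    fin_cases k
    · rfl
    · exact e1
    · exact e2
    · exact e3
    · rfl
    · exact e5
    · exact e6
  obtain ⟨i, j, hij⟩ := fin_aux (g 0) (g 4) (by
    intro x y hxy
    rw [← hF, ← hF] at hxy
    exact g.injective hxy) e4
  have hgij : g = c4 ^ (i : ℕ) * c2 ^ (j : ℕ) := by
    ext k
    rw [hF k, hij k]
  obtain ⟨k, hk⟩ := fin_sign i j (by rw [← hgij]; exact hs)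
  exact ⟨k, by rw [hgij, hk]⟩

theorem order_s : orderOf (c4 * c2) = 4 := by
  refine orderOf_eq_of_pow_and_pow_div_prime (by norm_num) (by decide +kernel) ?_
  intro p hp hd
  have : p = 2 := by
    have h4 : p ∣ 2 ^ 2 := by simpa using hd
    exact (Nat.prime_dvd_prime_iff_eq hp Nat.prime_two).1 (hp.dvd_of_dvd_pow h4)
  subst this
  decide +kernel

/-- **`A₇` has an element of order 4 generating its centralizer.** -/
theorem exists_four : ∃ s : alternatingGroup (Fin 7), orderOf s = 4 ∧ ∀ g, g * s = s * g → g ∈ zpowers s := by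
  refine ⟨⟨c4 * c2, by rw [Perm.mem_alternatingGroup]; decide +kernel⟩, ?_, ?_⟩
  · rw [Subgroup.orderOf_mk, order_s]
  · rintro ⟨g, hg⟩ h
    obtain ⟨k, hk⟩ := perm_cent g (congrArg Subtype.val h) (Perm.mem_alternatingGroup.1 hg)
    refine ⟨(k : ℕ), ?_⟩
    apply Subtype.ext
    simp only [zpow_natCast, SubmonoidClass.mk_pow]
    exact hk.symm

end Cfsg.Agent.H688.Mon
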