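import Cfsg.Agent.H688.Mon.Orders
import Cfsg.Agent.H688.Mon.Abs
import Cfsg.Agent.H688.Mon.AltSeven
import Cfsg.Agent.H961.SevM
import Cfsg.Agent.H387.VO.Main
import Cfsg.Agent.H573.Spor.Lift
import Cfsg.Agent.S2085

/-!
# Two vanishing elements of order 56 in the Monster (helper688)
-/

set_option autoImplicit false
set_option maxRecDepth 100000

namespace Cfsg.Agent.H688.Mon

open Cfsg Subgroup
open Cfsg.Agent.LThreeMB (fr XX Zx zD self self_mem_center toXX toCC be be_coe KChart.Cent KChart.pi KChart.chart)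
open Cfsg.Agent.MonsterX Cfsg.Agent.MonsterX.InstData
open Cfsg.Agent.MonsterP
open Cfsg.Agent.H961

section chart

variable {G : Type*} [Group G] {Q : Subgroup G} {z : G} {eta : G → Cfsg.Agent.MonsterU.Lam2.L2}
  {pi : Subgroup.centralizer ({z} : Set G) →* Spor.Co1}

theorem toXX_zD (h : Cfsg.Agent.MonsterU.Ch.Chart Q z eta pi) (x : Subgroup.centralizer ({z} : Set G)) :
    toXX pi x ⟨zD x, mem_centralizer_singleton_iff.2 rfl⟩ = 1 := by
  have h1 : be pi x (toCC x ⟨zD x, mem_centralizer_singleton_iff.2 rfl⟩) = 1 := by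
    apply Subtype.ext
    rw [be_coe]
    exact (h.pi_eq_one _).2 h.large.z_mem
  have h2 : (QuotientGroup.mk' (Zx (pi x))) (be pi x (toCC x ⟨zD x, mem_centralizer_singleton_iff.2 rfl⟩)) = 1 := by
    rw [h1, map_one]
  exact h2

end chart

theorem four_of_equiv {A B : Type*} [Group A] [Group B] (e : A ≃* B)
    (h : ∃ s : A, orderOf s = 4 ∧ ∀ g, g * s = s * g → g ∈ zpowers s) :
    ∃ s : B, orderOf s = 4 ∧ ∀ g, g * s = s * g → g ∈ zpowers s := by
  obtain ⟨s, hs, hc⟩ := h
  refine ⟨e s, by rw [MulEquiv.orderOf_eq, hs], fun g hg => ?_⟩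
  obtain ⟨k, hk⟩ := mem_zpowers_iff.1 (hc (e.symm g) (by
    apply e.injective
    rw [map_mul, map_mul, e.apply_symm_apply]
    exact hg))
  refine mem_zpowers_iff.2 ⟨k, ?_⟩
  rw [← map_zpow, hk, e.apply_symm_apply]

/-- every automorphism of the model is inner -/
theorem all_inner (α : MulAut ↥InstData.M.G) : α ∈ (MulAut.conj : ↥InstData.M.G →* MulAut ↥InstData.M.G).range := by
  obtain ⟨f⟩ := Cfsg.Agent.MonsterP.Equiv.equiv
  have h0 : Nat.card (Out ↥InstData.M.G) = 1 := by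
    rw [← H55.OutGen.card_out_congr f]
    exact S2085.result
  have h1 : Subsingleton (Out ↥InstData.M.G) := (Nat.card_eq_one_iff_unique.1 h0).1
  have h2 : (QuotientGroup.mk α : Out ↥InstData.M.G) = QuotientGroup.mk 1 := Subsingleton.elim _ _
  rw [eq_comm, QuotientGroup.eq, inv_one, one_mul] at h2
  obtain ⟨s, hs⟩ := h2
  exact ⟨s, hs⟩

/-- an element with a small centralizer is a vanishing element -/
theorem vz_of_cyc {x : ↥InstData.M.G} (ho : orderOf x < 57) (hc : ∀ g, g * x = x * g → g ∈ zpowers x) :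
    H713.VZ ↥InstData.M.G x := by
  refine H710.VanCount.vz_of_card_inner x ?_ all_inner
  have h1 : centralizer ({x} : Set ↥InstData.M.G) = zpowers x := by
    refine le_antisymm (fun g hg => hc g (mem_centralizer_singleton_iff.1 hg)) ?_
    rw [zpowers_le]
    exact mem_centralizer_singleton_iff.2 rfl
  rw [h1, Nat.card_zpowers]
  exact ho.trans_le card_conjClasses

/-- the element of order 56 -/
theorem exists_x : ∃ x : ↥InstData.M.G, orderOf x = 56 ∧ (∀ g, g * x = x * g → g ∈ zpowers x) ∧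
    ∀ g : ↥InstData.M.G, g * x * g⁻¹ ≠ x ^ 29 := by
  have := MFive.Row.finite_model
  have hp7 : Nat.Prime 7 := by norm_num
  obtain ⟨w, hw, hws⟩ := H573.Spor.Monster.exists_lift hp7 (by decide) H813.CoSevenMain.order_pp
  have h := KChart.chart KDone.lft MFive.Row.hc
  have hfr : fr (KChart.pi MFive.Row.hc w) = 1 := by rw [hws]; exact SevX.fr_pp
  have hw7 : w ^ 7 = 1 := by rw [← hw, pow_orderOf_eq_one]
  have hpo := MFive.orderOf_pi h hp7 (by decide) hw
  obtain ⟨e1⟩ := SevX.xx_equiv hpo hfr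
  obtain ⟨e2⟩ := H813.CoSevenMain.BB_equiv
  obtain ⟨s0, hs0, hs0c⟩ := four_of_equiv (e2.symm.trans e1) exists_four
  have hwo : orderOf (w : ↥InstData.M.G) = 7 := by rw [Subgroup.orderOf_coe, hw]
  obtain ⟨y, hy, hyz, ha, hb⟩ := exists_eight (C := ↥(centralizer ({(w : ↥InstData.M.G)} : Set ↥InstData.M.G)))
    (w := self (w : ↥InstData.M.G)) (z := zD w)
    (by rw [← Subgroup.orderOf_coe]; exact hwo)
    (fun d => mem_center_iff.1 (self_mem_center (w : ↥InstData.M.G)) d)
    (MFive.orderOf_zD h w) (toXX (KChart.pi MFive.Row.hc) w)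
    (MFive.toXX_surj h hp7 (by decide) hw7) (SevM.ker_toXX h hw7 hfr)
    (BpRankZero.Seven.only_zD KDone.lft MFive.Row.hc hw7 hfr) (toXX_zD h w)
    hs0 hs0c
  obtain ⟨k1, k2, k3⟩ := cyc_data hwo hy hyz (fun g hg => by
      obtain ⟨i, j, hij⟩ := ha g hg
      exact ⟨i, j, by rw [hij]; rfl⟩) (fun g hg => by
      obtain ⟨i, j, hij⟩ := hb g hg
      exact ⟨i, j, by rw [hij]; rfl⟩)
  exact ⟨_, k1, k2, k3⟩

theorem two_model : H387.VO.TwoVan 7 ↥InstData.M.G := by
  obtain ⟨x, ho, hc, hn⟩ := exists_x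
  have hx56 : x ^ 56 = 1 := by rw [← ho, pow_orderOf_eq_one]
  have ho' : orderOf (x ^ 29) = 56 := by
    rw [Nat.Coprime.orderOf_pow (by rw [ho]; norm_num), ho]
  have e : (x ^ 29) ^ 29 = x := by
    rw [← pow_mul, show 29 * 29 = 56 * 15 + 1 by norm_num, pow_succ, pow_mul, hx56, one_pow, one_mul]
  refine ⟨x, x ^ 29, by rw [ho]; norm_num, by rw [ho']; norm_num, vz_of_cyc (by rw [ho]; norm_num) hc,
    vz_of_cyc (by rw [ho']; norm_num) ?_, ?_⟩
  · intro g hg
    have hg' : Commute g (x ^ 29) := hg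
    have h1 := hg'.pow_right 29
    rw [e] at h1
    have h2 := hc g h1
    have h3 : x ∈ zpowers (x ^ 29) := mem_zpowers_iff.2 ⟨29, by
      rw [← Nat.cast_ofNat (R := ℤ), zpow_natCast]
      exact e⟩
    exact (zpowers_le.2 h3) h2
  · intro α hα
    obtain ⟨g, rfl⟩ := all_inner α
    exact hn g hα

/-- **The Monster has two vanishing elements of order divisible by 7 in different `Aut`-orbits.** -/
theorem two_m_p {K : Type*} [Group K] (h : Spor.IsoM K) : H387.VO.TwoVan 7 K := by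
  obtain ⟨e⟩ := h
  obtain ⟨f⟩ := Cfsg.Agent.MonsterP.Equiv.equiv
  exact two_model.mulEquiv (e.trans f).symm

end Cfsg.Agent.H688.Mon
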