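import Cfsg.Agent.H573.Spor.MSeven
import Cfsg.Agent.H573.Spor.MThree
import Cfsg.Agent.H493.NB.Mon
import Cfsg.Agent.H710.Spor.He
import Cfsg.Agent.H710.Spor.HNMix
import Cfsg.Agent.H710.VanCount
import Cfsg.Agent.H713.Spor.M
import Cfsg.Agent.H514.OrdSpor

/-!
# Orders of elements of the Monster and a lower bound of the number of its classes (helper688)

* `Has G n` : there is an element of order `n`; `Has.of_XX` : elements of order `p n` from elements of
  order `n` of `C(x)/⟨x⟩`, `x` of order `p`;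
* `orders` : a list of 58 orders; `card_conjClasses`: the Monster has at least 59 classes.
-/

set_option autoImplicit false
set_option maxRecDepth 100000

namespace Cfsg.Agent.H688.Mon

open Cfsg Subgroup
open Cfsg.Agent.LThreeMB (XX Zx self)
open Cfsg.Agent.MonsterX

/-- there is an element of order `n` -/
def Has (G : Type*) [Group G] (n : ℕ) : Prop := ∃ g : G, orderOf g = n

section gen

theorem exists_pow {G : Type*} [Group G] {g : G} {m : ℕ} (h1 : orderOf g ≠ 0) (hm : m ∣ orderOf g) :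
    ∃ k : ℕ, orderOf (g ^ k) = m := by
  obtain ⟨k, hk⟩ := hm
  have hk0 : k ≠ 0 := by
    rintro rfl
    exact h1 (by rw [hk, mul_zero])
  refine ⟨k, ?_⟩
  rw [orderOf_pow' _ hk0, hk, Nat.gcd_eq_right (Dvd.intro_left m rfl), Nat.mul_div_cancel _ (Nat.pos_of_ne_zero hk0)]

variable {G : Type*} [Group G]

theorem Has.of_equiv {H : Type*} [Group H] (e : G ≃* H) {n : ℕ} (h : Has G n) : Has H n := by
  obtain ⟨g, hg⟩ := h
  exact ⟨e g, by rw [MulEquiv.orderOf_eq, hg]⟩

/-- an element of order `n` of `C(x)` gives an element of order `|x| n` -/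
theorem Has.of_cent {x : G} {m n : ℕ} (hx : orderOf x = m) (hc : m.Coprime n)
    (h : Has ↥(centralizer ({x} : Set G)) n) : Has G (m * n) := by
  obtain ⟨c, hcn⟩ := h
  have h1 : Commute x (c : G) := (mem_centralizer_singleton_iff.1 c.2).symm
  refine ⟨x * c, ?_⟩
  rw [h1.orderOf_mul_eq_mul_orderOf_of_coprime (by rw [hx, Subgroup.orderOf_coe, hcn]; exact hc), hx,
    Subgroup.orderOf_coe, hcn]

variable [Finite G]

theorem Has.dvd {m n : ℕ} (h : Has G n) (hm : m ∣ n) : Has G m := by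
  obtain ⟨g, rfl⟩ := h
  obtain ⟨k, hk⟩ := exists_pow (orderOf_pos g).ne' hm
  exact ⟨_, hk⟩

theorem Has.prime {q : ℕ} (hq : q.Prime) (h : q ∣ Nat.card G) : Has G q := by
  have : Fact q.Prime := ⟨hq⟩
  exact exists_prime_orderOf_dvd_card' q h

/-- **An element of order `n` of `C(x)/⟨x⟩` gives an element of order `|x| n`.** -/
theorem Has.of_XX {x : G} {m n : ℕ} (hx : orderOf x = m) (hc : m.Coprime n)
    (h : Has (XX x) n) : Has G (m * n) := by
  obtain ⟨s, hs⟩ := h
  obtain ⟨c, rfl⟩ := QuotientGroup.mk_surjective s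
  have h1 : n ∣ orderOf c := by
    rw [← hs]
    exact orderOf_map_dvd (QuotientGroup.mk' (Zx x)) c
  exact Has.of_cent hx hc (Has.dvd ⟨c, rfl⟩ h1)

/-- a prime divisor of the order of the centralizer -/
theorem Has.of_dvd_cent {x : G} {m q : ℕ} (hx : orderOf x = m) (hq : q.Prime) (hc : m.Coprime q)
    (h : q ∣ Nat.card ↥(centralizer ({x} : Set G))) : Has G (m * q) :=
  Has.of_cent hx hc (Has.prime hq h)

end gen

/-! ### The Monster -/

/-- the orders in use -/
def orders : List ℕ := [1, 2, 4, 7, 8, 14, 28, 56, 3, 6, 12, 21, 42, 84, 5, 10, 35, 70, 15, 105, 17, 119,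
  11, 13, 19, 23, 31, 47, 22, 26, 34, 38, 46, 62, 94, 29, 33, 39, 51, 69, 87, 57, 93,
  9, 20, 30, 40, 45, 55, 60, 95, 110, 24, 41, 59, 71]

/-- maximal ones -/
def tops : List ℕ := [7 * 8, 7 * 12, 7 * 10, 7 * 15, 7 * 17, 2 * 11, 2 * 13, 2 * 17, 2 * 19, 2 * 23, 2 * 31, 2 * 47,
  3 * 11, 3 * 13, 3 * 17, 3 * 23, 3 * 29, 3 * 19, 3 * 31, 3 * 8, 5 * 4, 5 * 6, 5 * 8, 5 * 9, 5 * 11, 5 * 12, 5 * 19,
  5 * 22, 41, 59, 71]

theorem chk_tops : ∀ n ∈ orders, ∃ m ∈ tops, n ∣ m := by decide +kernel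

theorem nodup_orders : orders.Nodup := by decide +kernel

theorem length_orders : orders.length = 56 := by decide +kernel

instance : Finite ↥InstData.M.G := MFive.Row.finite_model

theorem card_model : Nat.card ↥InstData.M.G = 808017424794512875886459904961710757005754368000000000 :=
  MonsterP.EquivOf.isM_model.2

open Cfsg.Agent.H710.Spor.He in
theorem he_orders {S : Type*} [Group S] [Finite S] (h : Spor.IsoHe S) :
    Has S 8 ∧ Has S 12 ∧ Has S 10 ∧ Has S 15 ∧ Has S 17 := by
  obtain ⟨e⟩ := h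
  have : Finite Cfsg.Spor.He := Finite.of_equiv _ e.toEquiv
  exact ⟨Has.of_equiv e.symm ⟨_, o8⟩, Has.of_equiv e.symm ⟨_, o12⟩, Has.of_equiv e.symm ⟨_, o10⟩,
    Has.of_equiv e.symm ⟨_, o15⟩, Has.of_equiv e.symm ⟨_, o17⟩⟩

theorem hn_orders {S : Type*} [Group S] [Finite S] (h : Spor.IsoHN S) :
    ∀ n ∈ Cfsg.Agent.H710.Spor.HNMix.ordB, Has S n := by
  obtain ⟨e⟩ := h
  have : Finite Cfsg.Spor.HN := Finite.of_equiv _ e.toEquiv
  intro n hn
  exact Has.of_equiv e.symm (Cfsg.Agent.H710.Spor.HNMix.exists_ordB n hn)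

theorem has_tops : ∀ n ∈ tops, Has ↥InstData.M.G n := by
  -- the centralizers
  obtain ⟨x7, hx7, h7⟩ := Cfsg.Agent.H573.Spor.Monster.exists_he
  obtain ⟨x5, hx5, h5⟩ := Cfsg.Agent.H573.Spor.Monster.exists_five
  obtain ⟨x3, hx3, h3⟩ := Cfsg.Agent.H573.Spor.Monster.exists_th
  obtain ⟨y3, hy3, h3'⟩ := Cfsg.Agent.H493.NB.exists_fi
  have A := Cfsg.Agent.MonsterU.Uncond.all
  have hx2 := Cfsg.Agent.H713.Spor.MOf.orderOf_t A.hG A.hR
  have h2 := Cfsg.Agent.MonsterX.MainPack.card_cent_t A.hG A.hR A.hL A.hO A.hT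
  have c5 : Nat.card (XX x5) = 273030912000000 := Cfsg.Agent.H573.Spor.Monster.card_HN h5
  have c3 : Nat.card (XX x3) = 90745943887872000 := Cfsg.Agent.H573.Spor.Monster.card_Th h3
  have c3' : Nat.card (XX y3) = 1255205709190661721292800 := Cfsg.Agent.H573.Spor.Monster.card_Fi24 h3'
  obtain ⟨a8, a12, a10, a15, a17⟩ := he_orders h7
  have b := hn_orders h5
  have k3 : Has (XX y3) 8 := by
    obtain ⟨e⟩ := h3'
    obtain ⟨g, hg⟩ := Cfsg.Agent.H514.OC.Spor.fi24_eight
    have : Finite Cfsg.Spor.Fi24' := Finite.of_equiv _ e.toEquiv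
    exact Has.of_equiv e.symm (Has.dvd ⟨g, rfl⟩ hg)
  intro n hn
  simp only [tops, List.mem_cons, List.not_mem_nil, or_false] at hn
  rcases hn with rfl | rfl | rfl | rfl | rfl | rfl | rfl | rfl | rfl | rfl | rfl | rfl | rfl | rfl | rfl | rfl |
    rfl | rfl | rfl | rfl | rfl | rfl | rfl | rfl | rfl | rfl | rfl | rfl | rfl | rfl | rfl
  · exact Has.of_XX hx7 (by norm_num) a8
  · exact Has.of_XX hx7 (by norm_num) a12
  · exact Has.of_XX hx7 (by norm_num) a10
  · exact Has.of_XX hx7 (by norm_num) a15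
  · exact Has.of_XX hx7 (by norm_num) a17
  · exact Has.of_dvd_cent hx2 (by norm_num) (by norm_num) (by rw [h2]; norm_num)
  · exact Has.of_dvd_cent hx2 (by norm_num) (by norm_num) (by rw [h2]; norm_num)
  · exact Has.of_dvd_cent hx2 (by norm_num) (by norm_num) (by rw [h2]; norm_num)
  · exact Has.of_dvd_cent hx2 (by norm_num) (by norm_num) (by rw [h2]; norm_num)
  · exact Has.of_dvd_cent hx2 (by norm_num) (by norm_num) (by rw [h2]; norm_num)
  · exact Has.of_dvd_cent hx2 (by norm_num) (by norm_num) (by rw [h2]; norm_num)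
  · exact Has.of_dvd_cent hx2 (by norm_num) (by norm_num) (by rw [h2]; norm_num)
  · exact Has.of_XX hy3 (by norm_num) (Has.prime (by norm_num) (by rw [c3']; norm_num))
  · exact Has.of_XX hy3 (by norm_num) (Has.prime (by norm_num) (by rw [c3']; norm_num))
  · exact Has.of_XX hy3 (by norm_num) (Has.prime (by norm_num) (by rw [c3']; norm_num))
  · exact Has.of_XX hy3 (by norm_num) (Has.prime (by norm_num) (by rw [c3']; norm_num))
  · exact Has.of_XX hy3 (by norm_num) (Has.prime (by norm_num) (by rw [c3']; norm_num))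
  · exact Has.of_XX hx3 (by norm_num) (Has.prime (by norm_num) (by rw [c3]; norm_num))
  · exact Has.of_XX hx3 (by norm_num) (Has.prime (by norm_num) (by rw [c3]; norm_num))
  · exact Has.of_XX hy3 (by norm_num) k3
  · exact Has.of_XX hx5 (by norm_num) (b 4 (by decide))
  · exact Has.of_XX hx5 (by norm_num) (b 6 (by decide))
  · exact Has.of_XX hx5 (by norm_num) (b 8 (by decide))
  · exact Has.of_XX hx5 (by norm_num) (b 9 (by decide))
  · exact Has.of_XX hx5 (by norm_num) (b 11 (by decide))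
  · exact Has.of_XX hx5 (by norm_num) (b 12 (by decide))
  · exact Has.of_XX hx5 (by norm_num) (b 19 (by decide))
  · exact Has.of_XX hx5 (by norm_num) (b 22 (by decide))
  · exact Has.prime (by norm_num) (by rw [card_model]; norm_num)
  · exact Has.prime (by norm_num) (by rw [card_model]; norm_num)
  · exact Has.prime (by norm_num) (by rw [card_model]; norm_num)

theorem has_orders : ∀ n ∈ orders, Has ↥InstData.M.G n := by
  intro n hn
  obtain ⟨m, hm, hd⟩ := chk_tops n hn
  exact (has_tops m hm).dvd hd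

/-- the two classes of involutions -/
theorem two_inv : ∃ g h : ↥InstData.M.G, orderOf g = 2 ∧ orderOf h = 2 ∧ ¬ IsConj g h := by
  have A := Cfsg.Agent.MonsterU.Uncond.all
  refine ⟨_, _, Cfsg.Agent.MonsterX.MainPack.orderOf_z A.hG, Cfsg.Agent.H713.Spor.MOf.orderOf_t A.hG A.hR, fun h => ?_⟩
  have h1 := Cfsg.Agent.Blocks.SylowIn.card_centralizer_of_isConj h
  rw [Cfsg.Agent.H713.Spor.MOf.card_cent_z A.hG A.hR A.hL A.hO A.hT,
    Cfsg.Agent.MonsterX.MainPack.card_cent_t A.hG A.hR A.hL A.hO A.hT] at h1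
  norm_num at h1

/-- **The Monster has at least 57 conjugacy classes.** -/
theorem card_conjClasses : 57 ≤ Nat.card (ConjClasses ↥InstData.M.G) := by
  have h := Cfsg.Agent.H710.VanCount.le_card_conjClasses_two (G := ↥InstData.M.G) orders.toFinset {2}
    (fun n hn => has_orders n (List.mem_toFinset.1 hn)) (fun n hn => by
      rw [Finset.mem_singleton] at hn
      rw [hn]
      exact two_inv)
  rw [List.toFinset_card_of_nodup nodup_orders, length_orders, Finset.card_singleton] at h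
  exact h

end Cfsg.Agent.H688.Mon
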